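import Cfsg.Agent.H352.Cd.Base

/-!
# Codegrees (S3538, S3539): the alternating groups (helper352)
-/

set_option autoImplicit false
set_option exponentiation.threshold 2000

namespace Cfsg.Agent.H352.Cd

open Cfsg.Agent.H902.Art Cfsg.Agent.H66.Cod Finset

/-- the primes up to `173` -/
def PA : List ℕ := [2, 3, 5, 7, 11, 13, 17, 19, 23, 29, 31, 37, 41, 43, 47, 53, 59, 61, 67, 71, 73, 79, 83, 89, 97, 101,
  103, 107, 109, 113, 127, 131, 137, 139, 149, 151, 157, 163, 167, 173]

theorem mem_PA {p : ℕ} (hp : p.Prime) (h : p ≤ 174) : p ∈ PA := by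
  have h2 := hp.two_le
  interval_cases p <;> first | (simp [PA]; done) | (exfalso; revert hp; norm_num; done)

/-- the admissible outcomes -/
noncomputable def resA (m T d : ℕ) : Bool :=
  or (and (or (Nat.beq m 7) (Nat.beq m 8)) (Nat.beq T (Nat.mul d 20160))) (and (Nat.beq m 10) (Nat.beq T (Nat.mul d 987033600)))

/-- the test for `T = d N`, `F = m !` -/
noncomputable def testA (T d m F : ℕ) : Bool :=
  cond (Nat.ble (Nat.mul (Nat.mul d F) (Nat.pow 2 m)) (Nat.mul 2 T)) true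
    (cond (Nat.beq (Nat.mod (Nat.mul 2 T) (Nat.mul d F)) 0)
      (cond (Nat.ble (Nat.mul (Nat.mul d F) F) (Nat.mul (Nat.mul 2 T) (Nat.mul 2 (Nat.pow (Nat.sub m 1) 2)))) true
        (resA m T d)) true)

/-- the loop -/
noncomputable def goA (T d : ℕ) (n : ℕ) : ℕ → ℕ → Bool :=
  Nat.rec (motive := fun _ => ℕ → ℕ → Bool) (fun _ _ => true)
    (fun _ ih m F => cond (Nat.ble (Nat.succ (Nat.mul 2 T)) (Nat.mul d F)) true
      (and (testA T d m F) (ih (Nat.succ m) (Nat.mul (Nat.succ m) F)))) n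

theorem goA_succ (T d n m F : ℕ) : goA T d (n + 1) m F =
    cond (Nat.ble (Nat.succ (Nat.mul 2 T)) (Nat.mul d F)) true
      (and (testA T d m F) (goA T d n (Nat.succ m) (Nat.mul (Nat.succ m) F))) := rfl

theorem goA_spec {T d : ℕ} {m' : ℕ} (hT : d * m'.factorial ≤ 2 * T) : ∀ (n m F : ℕ), goA T d n m F = true →
    F = m.factorial → m ≤ m' → m' < m + n → testA T d m' m'.factorial = true := by
  intro n
  induction n with
  | zero => intro m F _ _ h1 h2; omega
  | succ n ih =>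
    intro m F h hF h1 h2
    rw [goA_succ] at h
    have h3 : Nat.ble (Nat.succ (Nat.mul 2 T)) (Nat.mul d F) = false := by
      rw [← Bool.not_eq_true, Nat.ble_eq, not_le, hF]
      have h4 : d * m.factorial ≤ d * m'.factorial := Nat.mul_le_mul_left d (Nat.factorial_le h1)
      exact Nat.lt_succ_of_le (h4.trans hT)
    rw [h3, cond_false, Bool.and_eq_true] at h
    rcases Nat.eq_or_lt_of_le h1 with h5 | h5
    · rw [← h5, ← hF]
      exact h.1
    · refine ih (m + 1) _ h.2 ?_ h5 (by omega)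
      rw [hF, Nat.factorial_succ]
      rfl

/-- the enumeration -/
noncomputable def allA : Bool :=
  PA.all fun p => TL.all fun X => (List.range (Nat.div 357 (NN X))).all fun i =>
    cond (Nat.ble (Nat.pow 2 347) (Nat.pow p (Nat.mul (Nat.succ i) (NN X)))) true
      (goA (TT X (Nat.pow p (Nat.succ i))) (dd X (Nat.pow p (Nat.succ i))) 170 5 120)

set_option maxRecDepth 100000 in
theorem allA_true : allA = true := by
  decide +kernel

theorem fact_ge : ∀ k : ℕ, 2 ^ (6 * (175 + k) - 2) ≤ (175 + k).factorial := by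
  intro k
  induction k with
  | zero => decide +kernel
  | succ k ih =>
    rw [← Nat.add_assoc, Nat.factorial_succ]
    have e1 : 6 * (175 + k + 1) - 2 = (6 * (175 + k) - 2) + 6 := by omega
    rw [e1, pow_add, mul_comm]
    exact Nat.mul_le_mul (by omega) ih

theorem P_fact_le {p m : ℕ} (hp : p.Prime) (hm : 1 ≤ m) : P p m.factorial ≤ 2 ^ (m - 1) := by
  haveI : Fact p.Prime := ⟨hp⟩
  have h1 := sub_one_mul_padicValNat_factorial_lt_of_ne_zero (p := p) (n := m) (by omega)
  unfold P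
  rw [Nat.factorization_def _ hp]
  have h2 : p ≤ 2 ^ (p - 1) := by
    have := Nat.lt_two_pow_self (n := p - 1)
    have := hp.one_lt
    omega
  calc p ^ padicValNat p m.factorial ≤ (2 ^ (p - 1)) ^ padicValNat p m.factorial := Nat.pow_le_pow_left h2 _
    _ = 2 ^ ((p - 1) * padicValNat p m.factorial) := by rw [← pow_mul]
    _ ≤ 2 ^ (m - 1) := Nat.pow_le_pow_right (by norm_num) (by omega)

theorem alt_numeric {X : Cfsg.Agent.H902.Art.Sh} {p f m k N : ℕ} (hX : Cfsg.Agent.H66.Cod.Tgt X)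
    (h : Cfsg.Agent.H902.Art.Real X p f N) (hm : 5 ≤ m) (hpm : p ≤ m) (hk : 2 * N = k * m.factorial)
    (h1 : k * (2 * (m - 1) ^ 2) < m.factorial) (h2 : k < 2 ^ m) :
    (m = 7 ∧ N = 20160) ∨ (m = 8 ∧ N = 20160) ∨ (m = 10 ∧ N = 987033600) := by
  have hp := h.hp
  have hf := h.hf
  have hN0 : N ≠ 0 := h.M_ne
  have hF0 : m.factorial ≠ 0 := Nat.factorial_ne_zero m
  have hk0 : k ≠ 0 := by
    rintro rfl
    rw [zero_mul] at hk
    omega
  have hNN := Tgt.NN_pos hX
  -- the `p`-part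
  have h3 : P p N < 2 ^ (2 * m - 1) := by
    have h4 : P p N ≤ P p (2 * N) := P_mono hp (by omega) (Dvd.intro_left 2 rfl)
    rw [hk, P_mul hk0 hF0] at h4
    have h5 : P p k ≤ k := P_le hk0
    have h6 := P_fact_le hp (show 1 ≤ m by omega)
    have e : 2 ^ (2 * m - 1) = 2 ^ m * 2 ^ (m - 1) := by rw [← pow_add]; congr 1; omega
    rw [e]
    calc P p N ≤ P p k * P p m.factorial := h4
      _ ≤ k * 2 ^ (m - 1) := Nat.mul_le_mul h5 h6
      _ < 2 ^ m * 2 ^ (m - 1) := Nat.mul_lt_mul_of_pos_right h2 (by positivity)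
  -- `m ≤ 174`
  have h4 : m ≤ 174 := by
    by_contra hcon
    obtain ⟨j, rfl⟩ := Nat.exists_eq_add_of_le (show 175 ≤ m by omega)
    have h5 := fact_ge j
    have h6 := h.lt_cube
    have h7 : (P p N) ^ 3 ≤ (2 ^ (2 * (175 + j) - 1)) ^ 3 := Nat.pow_le_pow_left h3.le 3
    rw [← pow_mul] at h7
    have h8 : (175 + j).factorial ≤ 2 * N := by
      rw [hk]
      exact Nat.le_mul_of_pos_left _ (Nat.pos_of_ne_zero hk0)
    have e : 2 ^ (6 * (175 + j) - 2) = 2 * 2 ^ ((2 * (175 + j) - 1) * 3) := by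
      rw [← pow_succ']; congr 1; omega
    rw [e] at h5
    have h9 := lt_of_lt_of_le h6 h7
    omega
  have h5 : p ^ (f * NN X) < 2 ^ 347 := by
    rw [pow_mul, ← h.P_self]
    exact lt_of_lt_of_le h3 (Nat.pow_le_pow_right (by norm_num) (by omega))
  have h6 : f * NN X < 347 := by
    by_contra hcon
    have h9 : 2 ^ 347 ≤ p ^ (f * NN X) :=
      (Nat.pow_le_pow_right (by norm_num) (by omega)).trans (Nat.pow_le_pow_left hp.two_le _)
    exact absurd (lt_of_le_of_lt h9 h5) (lt_irrefl _)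
  have h9 : NN X ≤ 357 := by nlinarith
  have h10 := allA_true
  unfold allA at h10
  rw [List.all_eq_true] at h10
  have h12 := h10 p (mem_PA hp (by omega))
  rw [List.all_eq_true] at h12
  have h13 := h12 X (mem_TL hX h9)
  rw [List.all_eq_true] at h13
  have h14 := h13 (f - 1) (by
    rw [List.mem_range]
    have : f ≤ 357 / NN X := by
      rw [Nat.le_div_iff_mul_le (by omega)]
      omega
    show f - 1 < 357 / NN X
    omega)
  have e2 : Nat.succ (f - 1) = f := by omega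
  rw [e2] at h14
  have e3 : Nat.ble (Nat.pow 2 347) (Nat.pow p (Nat.mul f (NN X))) = false := by
    rw [← Bool.not_eq_true, Nat.ble_eq]
    exact Nat.not_le.2 h5
  rw [e3, cond_false] at h14
  have e4 : TT X (Nat.pow p f) = dd X (p ^ f) * N := TT_eq h
  have e5 : dd X (Nat.pow p f) = dd X (p ^ f) := rfl
  rw [e4, e5] at h14
  set d := dd X (p ^ f) with hd
  have hd0 : 0 < d := Nat.pos_of_ne_zero h.dd_ne
  have e6 : 2 * (d * N) = d * (k * m.factorial) := by rw [← hk]; ring
  have h15 := goA_spec (T := d * N) (d := d) (m' := m) (by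
    rw [e6]
    exact Nat.mul_le_mul_left d (Nat.le_mul_of_pos_left _ (Nat.pos_of_ne_zero hk0))) 170 5 120 h14 rfl hm (by omega)
  unfold testA at h15
  have e7 : Nat.ble (Nat.mul (Nat.mul d m.factorial) (Nat.pow 2 m)) (Nat.mul 2 (d * N)) = false := by
    rw [← Bool.not_eq_true, Nat.ble_eq, not_le]
    show 2 * (d * N) < d * m.factorial * 2 ^ m
    rw [e6]
    have : d * (k * m.factorial) = d * m.factorial * k := by ring
    rw [this]
    exact Nat.mul_lt_mul_of_pos_left h2 (Nat.mul_pos hd0 (Nat.pos_of_ne_zero hF0))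
  have e8 : Nat.beq (Nat.mod (Nat.mul 2 (d * N)) (Nat.mul d m.factorial)) 0 = true := by
    rw [Nat.beq_eq]
    refine Nat.mod_eq_zero_of_dvd ?_
    show d * m.factorial ∣ 2 * (d * N)
    rw [e6]
    exact Nat.mul_dvd_mul_left d (Dvd.intro_left k rfl)
  have e9 : Nat.ble (Nat.mul (Nat.mul d m.factorial) m.factorial)
      (Nat.mul (Nat.mul 2 (d * N)) (Nat.mul 2 (Nat.pow (Nat.sub m 1) 2))) = false := by
    rw [← Bool.not_eq_true, Nat.ble_eq, not_le]
    show 2 * (d * N) * (2 * (m - 1) ^ 2) < d * m.factorial * m.factorial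
    rw [e6]
    have : d * (k * m.factorial) * (2 * (m - 1) ^ 2) = d * m.factorial * (k * (2 * (m - 1) ^ 2)) := by ring
    rw [this]
    exact Nat.mul_lt_mul_of_pos_left h1 (Nat.mul_pos hd0 (Nat.pos_of_ne_zero hF0))
  rw [e7, cond_false, e8, cond_true, e9, cond_false] at h15
  unfold resA at h15
  rw [Bool.or_eq_true, Bool.and_eq_true, Bool.or_eq_true, Bool.and_eq_true, Nat.beq_eq, Nat.beq_eq, Nat.beq_eq,
    Nat.beq_eq, Nat.beq_eq] at h15
  have hc : ∀ {c : ℕ}, d * N = Nat.mul d c → N = c := fun h => Nat.eq_of_mul_eq_mul_left hd0 h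
  rcases h15 with ⟨h15 | h15, h16⟩ | ⟨h15, h16⟩
  · exact Or.inl ⟨h15, hc h16⟩
  · exact Or.inr (Or.inl ⟨h15, hc h16⟩)
  · exact Or.inr (Or.inr ⟨h15, hc h16⟩)

end Cfsg.Agent.H352.Cd
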