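import Cfsg.Agent.H66.Cod.Defs
import Cfsg.Agent.H902.Facts

/-!
# Codegrees (S3538, S3539): finite enumerations, common part (helper352)
-/

set_option autoImplicit false

namespace Cfsg.Agent.H352.Cd

open Cfsg.Agent.H902.Art Cfsg.Agent.H66.Cod Finset

/-- `∏ i < k, (q ^ (i + 2) - 1)` -/
noncomputable def pr (q : ℕ) (k : ℕ) : ℕ :=
  Nat.rec (motive := fun _ => ℕ) 1 (fun k ih => Nat.mul ih (Nat.sub (Nat.pow q (Nat.add k 2)) 1)) k

theorem pr_eq (q k : ℕ) : pr q k = ∏ i ∈ range k, (q ^ (i + 2) - 1) := by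
  induction k with
  | zero => rfl
  | succ k ih =>
    rw [prod_range_succ, ← ih]
    rfl

/-- `num` -/
noncomputable def numF : Sh → ℕ → ℕ
  | .L n, q => pr q (n - 1)
  | X, q => num X q

theorem numF_eq (X : Sh) (q : ℕ) : numF X q = num X q := by
  cases X <;> first | rfl | exact pr_eq _ _

/-- the order times `dd` -/
noncomputable def TT (X : Sh) (q : ℕ) : ℕ := Nat.mul (Nat.pow q (NN X)) (numF X q)

theorem TT_eq {X : Sh} {p f N : ℕ} (h : Real X p f N) : TT X (p ^ f) = dd X (p ^ f) * N := by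
  rw [h.eq, ← numF_eq]
  rfl

/-- the shapes -/
def TL : List Sh := ((List.range 24).map fun i => Sh.L (i + 4)) ++ [.F4, .E6, .E7, .E8]

theorem mem_TL {X : Sh} (hX : Tgt X) (h : NN X ≤ 357) : X ∈ TL := by
  rcases hX with ⟨n, hn, rfl⟩ | rfl | rfl | rfl | rfl
  · unfold TL
    rw [List.mem_append, List.mem_map]
    left
    refine ⟨n - 4, ?_, by congr 1; omega⟩
    rw [List.mem_range]
    by_contra hcon
    have h1 : 28 ≤ n := by omega
    have h2 : n * (n - 1) / 2 ≤ 357 := h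
    have h3 : 28 * 27 ≤ n * (n - 1) := Nat.mul_le_mul h1 (by omega)
    have h4 : 378 ≤ n * (n - 1) / 2 := by
      rw [Nat.le_div_iff_mul_le (by norm_num)]
      omega
    omega
  · simp [TL]
  · simp [TL]
  · simp [TL]
  · simp [TL]

theorem Tgt.NN_pos {X : Sh} (hX : Tgt X) : 1 ≤ NN X := by
  rcases hX with ⟨n, hn, rfl⟩ | rfl | rfl | rfl | rfl
  · show 1 ≤ n * (n - 1) / 2
    rw [Nat.le_div_iff_mul_le (by norm_num)]
    have h3 : 4 * 3 ≤ n * (n - 1) := Nat.mul_le_mul hn (by omega)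
    omega
  all_goals decide

end Cfsg.Agent.H352.Cd
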