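import Mathlib
import Cfsg.Agent.H902.Facts

/-!
# Codegrees (S3538, S3539): the fourth power bound for the linear groups (helper352)
-/

set_option autoImplicit false

namespace Cfsg.Agent.H352.Cd

open Cfsg.Agent.H902.Art Cfsg.Agent.H902.Lte Finset

/-! ### the lower bound for the order -/

theorem numL_lower {q : ℕ} (hq : 2 ≤ q) (k : ℕ) :
    q ^ (k * (k + 3) / 2) * (q ^ k + 1) ≤ 2 * q ^ k * ∏ i ∈ range k, (q ^ (i + 2) - 1) := by
  induction k with
  | zero => simp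
  | succ k ih =>
    have h1 : (k + 1) * (k + 1 + 3) / 2 = k * (k + 3) / 2 + (k + 2) := by
      have h2 : (k + 1) * (k + 1 + 3) = k * (k + 3) + 2 * (k + 2) := by ring
      rw [h2, Nat.add_mul_div_left _ _ (by norm_num)]
    rw [h1, prod_range_succ, pow_add q _ (k + 2)]
    set Q := q ^ k with hQ
    set E := q ^ (k * (k + 3) / 2) with hE
    set R := ∏ i ∈ range k, (q ^ (i + 2) - 1) with hR
    have hQ1 : 1 ≤ Q := Nat.one_le_pow _ _ (by omega)
    have h2 : q ^ (k + 2) = q * q * Q := by rw [hQ, pow_add]; ring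
    have h3 : q ^ (k + 1) = q * Q := by rw [hQ, pow_succ]; ring
    rw [h2, h3]
    have h4 : 1 ≤ q * q * Q := by
      have : 1 * 1 * 1 ≤ q * q * Q := Nat.mul_le_mul (Nat.mul_le_mul (by omega) (by omega)) hQ1
      omega
    obtain ⟨S, hS⟩ := Nat.exists_eq_add_of_le' h4
    rw [hS, Nat.add_sub_cancel]
    -- `(Q + 1) * q * S ≥ (S + 1) * (q * Q + 1)`
    have h5 : (S + 1) * (q * Q + 1) ≤ q * (Q + 1) * S := by
      have h6 : q * (Q + 1) * S = q * Q * S + q * S := by ring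
      rw [h6]
      have h7 : (S + 1) * (q * Q + 1) = q * Q * S + (S + 1 + q * Q) := by ring
      rw [h7]
      have h8 : S + 1 + q * Q ≤ q * S := by
        -- `q*q*Q + q*Q + q ≤ q * (q*q*Q)`
        have h9 : q * S + q = q * (q * q * Q) := by rw [hS]; ring
        have h10 : q * q * Q + q * Q + q ≤ q * (q * q * Q) := by
          obtain ⟨t, rfl⟩ := Nat.exists_eq_add_of_le' hq
          obtain ⟨s, hs⟩ := Nat.exists_eq_add_of_le' hQ1
          rw [hs]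
          nlinarith [Nat.zero_le (t * s), Nat.zero_le (t * t * s), Nat.zero_le (t * t * t * s),
            Nat.zero_le (t * t), Nat.zero_le (t * t * t)]
        omega
      omega
    calc E * (S + 1) * (q * Q + 1) = E * ((S + 1) * (q * Q + 1)) := by ring
      _ ≤ E * (q * (Q + 1) * S) := Nat.mul_le_mul_left _ h5
      _ = (E * (Q + 1)) * (q * S) := by ring
      _ ≤ (2 * Q * R) * (q * S) := Nat.mul_le_mul_right _ ih
      _ = 2 * (q * Q) * (R * S) := by ring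

theorem exp_L (k : ℕ) : (k + 1) * (k + 1 - 1) / 2 + k * (k + 3) / 2 = k * (k + 2) := by
  have h1 := two_mul_half (k + 1)
  have h2 : k * (k + 3) = (k + 1) * (k + 1 - 1) + 2 * k := by
    rw [Nat.add_sub_cancel]; ring
  rw [h2, Nat.add_mul_div_left _ _ (by norm_num)]
  have h3 : k * (k + 2) * 2 = (k + 1) * (k + 1 - 1) * 2 + 2 * k := by
    rw [Nat.add_sub_cancel]; ring
  omega

theorem T_lower {q n : ℕ} (hq : 2 ≤ q) (hn : 1 ≤ n) :
    q ^ ((n - 1) * (n + 1)) < 2 * (q ^ NN (.L n) * num (.L n) q) := by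
  obtain ⟨k, rfl⟩ := Nat.exists_eq_add_of_le' hn
  have h1 := numL_lower hq k
  rw [Nat.add_sub_cancel]
  have h2 : (k + 1 : ℕ) + 1 = k + 2 := rfl
  rw [h2, ← exp_L k, pow_add]
  show q ^ ((k + 1) * (k + 1 - 1) / 2) * q ^ (k * (k + 3) / 2) <
    2 * (q ^ ((k + 1) * (k + 1 - 1) / 2) * ∏ i ∈ range (k + 1 - 1), (q ^ (i + 2) - 1))
  rw [Nat.add_sub_cancel] at *
  set A := q ^ ((k + 1) * k / 2) with hA
  set E := q ^ (k * (k + 3) / 2) with hE
  set R := ∏ i ∈ range k, (q ^ (i + 2) - 1) with hR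
  have hA0 : 0 < A := pow_pos (by omega) _
  have hE0 : 0 < E := pow_pos (by omega) _
  have hQ0 : 0 < q ^ k := pow_pos (by omega) _
  have h3 : E < 2 * R := by
    by_contra hcon
    push Not at hcon
    have h4 : 2 * q ^ k * R ≤ E * q ^ k := by
      calc 2 * q ^ k * R = (2 * R) * q ^ k := by ring
        _ ≤ E * q ^ k := Nat.mul_le_mul_right _ hcon
    have h5 : E * (q ^ k + 1) = E * q ^ k + E := by ring
    omega
  calc A * E < A * (2 * R) := Nat.mul_lt_mul_of_pos_left h3 hA0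
    _ = 2 * (A * R) := by ring

theorem fin_L {p f n M Q : ℕ} (h : Real (.L n) p f M) (hn : 1 ≤ n)
    (hQ : 2 * dd (.L n) (p ^ f) * Q ^ 4 ≤ (p ^ f) ^ ((n - 1) * (n + 1))) : Q ^ 4 < M := by
  have h1 := T_lower h.q_ge hn
  rw [← h.eq] at h1
  have h2 : 2 * dd (.L n) (p ^ f) * Q ^ 4 < 2 * dd (.L n) (p ^ f) * M := by
    calc 2 * dd (.L n) (p ^ f) * Q ^ 4 ≤ _ := hQ
      _ < _ := h1
      _ = 2 * dd (.L n) (p ^ f) * M := by ring
  exact lt_of_mul_lt_mul_left h2 (Nat.zero_le _)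

theorem dd_le {q n : ℕ} (hq : 2 ≤ q) : dd (.L n) q ≤ q - 1 :=
  Nat.le_of_dvd (by omega) (Nat.gcd_dvd_right _ _)

theorem dd_le' {q n : ℕ} (hn : 1 ≤ n) : dd (.L n) q ≤ n :=
  Nat.le_of_dvd (by omega) (Nat.gcd_dvd_left _ _)

/-- with the trivial estimates for `dd` and the `r`-part of `dd` -/
theorem fin_L' {p f n M r e : ℕ} (h : Real (.L n) p f M) (hn : 1 ≤ n) (hr : r.Prime) (hrp : r ≠ p)
    (hR : (P r (num (.L n) (p ^ f))) ^ 4 ≤ (p ^ f) ^ e) (he : e + 2 ≤ (n - 1) * (n + 1)) :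
    (P r M) ^ 4 < M := by
  apply fin_L h hn
  have hq := h.q_ge
  set q := p ^ f with hqdef
  have h1 : 2 * dd (.L n) q ≤ q ^ 2 := by
    have h2 := dd_le (n := n) hq
    have h3 : 2 * q ≤ q * q := Nat.mul_le_mul_right q hq
    rw [sq]
    omega
  calc 2 * dd (.L n) q * (P r M) ^ 4 ≤ q ^ 2 * (P r (num (.L n) q)) ^ 4 :=
        Nat.mul_le_mul h1 (Nat.pow_le_pow_left (h.P_other_le hr hrp) 4)
    _ ≤ q ^ 2 * q ^ e := Nat.mul_le_mul_left _ hR
    _ = q ^ (e + 2) := by rw [pow_add]; ring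
    _ ≤ q ^ ((n - 1) * (n + 1)) := Nat.pow_le_pow_right (by omega) he

theorem W_L {q n : ℕ} (hq : 2 ≤ q) (hn : 1 ≤ n) (r : ℕ) :
    P r (num (.L n) q) * P r (q - 1) = P r (W (q : ℤ) n).natAbs := by
  rw [← num_L hq hn, P_mul (num_ne_zero hq _ (by intro m hm; rcases hm with hm | hm <;> cases hm)) (by omega)]

theorem natAbs_L {q : ℕ} (hq : 2 ≤ q) (k : ℕ) : ((q : ℤ) ^ k - 1).natAbs = q ^ k - 1 := by
  have h4 : (q : ℤ) ^ k - 1 = ((q ^ k - 1 : ℕ) : ℤ) := by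
    rw [Nat.cast_sub (Nat.one_le_pow _ _ (by omega))]; push_cast; rfl
  rw [h4, Int.natAbs_natCast]

theorem abs_q {q : ℕ} (hq : 2 ≤ q) : (2 : ℤ) ≤ |(q : ℤ)| := by
  have h2 : (2 : ℤ) ≤ q := by exact_mod_cast hq
  rwa [abs_of_nonneg (by positivity)]

/-! ### odd `r` -/

/-- `r` odd, `r ∣ q - 1` -/
theorem PL_one {r q n : ℕ} (hr : r.Prime) (hr2 : r ≠ 2) (hq : 2 ≤ q) (hrq : ¬ r ∣ q) (hn : 1 ≤ n) (h : r ∣ q - 1) :
    P r (num (.L n) q) = (P r (q - 1)) ^ (n - 1) * r ^ padicValNat r n.factorial := by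
  have h1 := W_L hq hn r
  have h2 : orderOf ((q : ℤ) : ZMod r) = 1 := by
    apply Nat.dvd_one.1
    apply (dvd_pow_sub_one_iff 1).1
    rw [pow_one]
    have h3 : (q : ℤ) - 1 = ((q - 1 : ℕ) : ℤ) := by
      rw [Nat.cast_sub (by omega)]; push_cast; rfl
    rw [h3]
    exact Int.natCast_dvd_natCast.2 h
  rw [PW_odd hr hr2 (abs_q hq) (not_dvd_cast hrq) n, h2, Nat.div_one, natAbs_L hq, pow_one] at h1
  have h6 : 0 < P r (q - 1) := P_pos hr
  apply Nat.eq_of_mul_eq_mul_right h6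
  rw [h1]
  obtain ⟨k, rfl⟩ := Nat.exists_eq_add_of_le' hn
  rw [Nat.add_sub_cancel, pow_succ]
  ring

/-- `r` odd, `r ∤ q - 1` -/
theorem PL_odd {r q n : ℕ} (hr : r.Prime) (hr2 : r ≠ 2) (hq : 2 ≤ q) (hrq : ¬ r ∣ q) (hn : 1 ≤ n) (h : ¬ r ∣ q - 1) :
    ∃ o : ℕ, 2 ≤ o ∧ P r (num (.L n) q) = (P r (q ^ o - 1)) ^ (n / o) * r ^ padicValNat r (n / o).factorial := by
  have h1 := W_L hq hn r
  rw [P_eq_one h, mul_one, PW_odd hr hr2 (abs_q hq) (not_dvd_cast hrq) n, natAbs_L hq] at h1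
  refine ⟨_, ?_, h1⟩
  have he := order_pos (q := q) hr (not_dvd_cast hrq)
  by_contra hcon
  have h3 : orderOf ((q : ℤ) : ZMod r) = 1 := by omega
  have h4 : (r : ℤ) ∣ (q : ℤ) ^ 1 - 1 := (dvd_pow_sub_one_iff 1).2 (by rw [h3])
  have h5 := Int.natCast_dvd.1 h4
  rw [natAbs_L hq, pow_one] at h5
  exact h h5

theorem four_bound {r q A a b R : ℕ} (hr : r.Prime) (hr2 : r ≠ 2) (hq : 2 ≤ q) (ha : 1 ≤ a) (hA : A ≤ q ^ b)
    (hR : R = A ^ a * r ^ padicValNat r a.factorial) : R ^ 4 ≤ q ^ (4 * (a * b) + 4 * (a - 1)) := by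
  have hr3 : 3 ≤ r := by have := hr.two_le; omega
  have h1 := pow_val_factorial_le hr hr3 (a := a) (by omega)
  have h9 : 3 ^ 2 ≤ q ^ 4 := by
    calc 3 ^ 2 ≤ 2 ^ 4 := by norm_num
      _ ≤ q ^ 4 := Nat.pow_le_pow_left hq 4
  calc R ^ 4 = (A ^ a) ^ 4 * ((r ^ padicValNat r a.factorial) ^ 2) ^ 2 := by rw [hR]; ring
    _ ≤ ((q ^ b) ^ a) ^ 4 * (3 ^ (a - 1)) ^ 2 :=
      Nat.mul_le_mul (Nat.pow_le_pow_left (Nat.pow_le_pow_left hA _) _) (Nat.pow_le_pow_left h1 2)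
    _ = ((q ^ b) ^ a) ^ 4 * (3 ^ 2) ^ (a - 1) := by rw [← pow_mul 3, mul_comm (a - 1) 2, pow_mul 3]
    _ ≤ ((q ^ b) ^ a) ^ 4 * (q ^ 4) ^ (a - 1) := Nat.mul_le_mul_left _ (Nat.pow_le_pow_left h9 _)
    _ = q ^ (4 * (a * b) + 4 * (a - 1)) := by
      rw [← pow_mul, ← pow_mul, ← pow_mul, ← pow_add]; congr 1; ring

theorem dom4_a {p f n M r : ℕ} (h : Real (.L n) p f M) (hn : 4 ≤ n) (hr : r.Prime) (hrp : r ≠ p) (hr2 : r ≠ 2)
    (hd : ¬ r ∣ p ^ f - 1) : (P r M) ^ 4 < M := by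
  have hq := h.q_ge
  have hrq := h.not_dvd_q hr hrp
  obtain ⟨o, ho, hR⟩ := PL_odd (n := n) hr hr2 hq hrq (by omega) hd
  have key : ∀ {e : ℕ}, (P r (num (.L n) (p ^ f))) ^ 4 ≤ (p ^ f) ^ e → e + 2 ≤ (n - 1) * (n + 1) →
      (P r M) ^ 4 < M := fun h1 h2 => fin_L' h (by omega) hr hrp h1 h2
  set q := p ^ f with hqdef
  have hq1 : 1 ≤ q := by omega
  have hle : n / o * o ≤ n := Nat.div_mul_le_self n o
  -- the monotonicity in `n`
  have hmono : ∀ m, m ≤ n → 1 ≤ m → (m - 1) * (m + 1) ≤ (n - 1) * (n + 1) := fun m hm _ =>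
    Nat.mul_le_mul (by omega) (by omega)
  rcases Nat.eq_zero_or_pos (n / o) with ha | ha
  · refine key (e := 0) ?_ ?_
    · rw [hR, ha]; simp
    · have := hmono 4 hn (by norm_num)
      omega
  set a := n / o with hadef
  rcases Nat.lt_or_ge o 3 with ho3 | ho3
  · -- `o = 2`
    have ho2 : o = 2 := by omega
    rw [ho2] at hR hle
    have hA : P r (q ^ 2 - 1) ≤ q + 1 := by
      have := P_sq_sub_one_le (j := 1) hr hr2 hq le_rfl
      simpa using this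
    have ha2 : 2 ≤ a := by
      rw [hadef, ho2]; omega
    rcases Nat.lt_or_ge a 3 with ha3 | ha3
    · -- `a = 2`
      have ha' : a = 2 := by omega
      have h2 : padicValNat r (Nat.factorial 2) = 0 := by
        apply padicValNat.eq_zero_of_not_dvd
        intro h10
        exact hr2 ((Nat.prime_dvd_prime_iff_eq hr Nat.prime_two).1 h10)
      rw [ha', h2, pow_zero, mul_one] at hR
      have h4 : (q + 1) ^ 8 ≤ q ^ 13 := by
        rcases Nat.lt_or_ge q 3 with hq3 | hq3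
        · have : q = 2 := by omega
          rw [this]; norm_num
        · have h5 : (q + 1) ^ 2 ≤ q ^ 3 := by nlinarith [Nat.mul_le_mul hq3 hq3]
          calc (q + 1) ^ 8 = ((q + 1) ^ 2) ^ 4 := by ring
            _ ≤ (q ^ 3) ^ 4 := Nat.pow_le_pow_left h5 4
            _ = q ^ 12 := by ring
            _ ≤ q ^ 13 := Nat.pow_le_pow_right hq1 (by norm_num)
      refine key (e := 13) ?_ ?_
      · calc (P r (num (.L n) q)) ^ 4 = (P r (q ^ 2 - 1)) ^ 8 := by rw [hR, ← pow_mul]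
          _ ≤ (q + 1) ^ 8 := Nat.pow_le_pow_left hA 8
          _ ≤ q ^ 13 := h4
      · have := hmono 4 hn (by norm_num)
        omega
    · refine key (four_bound hr hr2 hq (by omega) (hA.trans (show q + 1 ≤ q ^ 2 by nlinarith)) hR) ?_
      have h5 := hmono (a * 2) hle (by omega)
      refine le_trans ?_ h5
      obtain ⟨t, ht⟩ : ∃ t, a = t + 3 := ⟨a - 3, by omega⟩
      rw [ht]
      have e1 : (t + 3) * 2 - 1 = 2 * t + 5 := by omega
      have e2 : t + 3 - 1 = t + 2 := by omega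
      rw [e1, e2]
      nlinarith
  · rcases Nat.lt_or_ge o 5 with ho5 | ho5
    · -- `o = 3, 4`
      have hA : P r (q ^ o - 1) ≤ q ^ 3 := by
        have ho34 : o = 3 ∨ o = 4 := by omega
        rcases ho34 with rfl | rfl
        · exact (P_le (sub_one_ne hq (by norm_num))).trans (Nat.sub_le _ _)
        · have h5 := P_sq_sub_one_le (j := 2) hr hr2 hq (by norm_num)
          have h6 : q ^ 2 + 1 ≤ q ^ 3 := by
            have h7 : q ^ 3 = q * q ^ 2 := by ring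
            have h8 : 2 * q ^ 2 ≤ q * q ^ 2 := Nat.mul_le_mul_right _ hq
            have h9 : 1 ≤ q ^ 2 := Nat.one_le_pow _ _ hq1
            omega
          exact h5.trans h6
      refine key (four_bound hr hr2 hq ha hA hR) ?_
      have h3 : a * 3 ≤ n := (Nat.mul_le_mul_left _ ho3).trans hle
      rcases Nat.lt_or_ge a 2 with ha2 | ha2
      · have : a = 1 := by omega
        rw [this]
        have := hmono 4 hn (by norm_num)
        omega
      · have h5 := hmono (a * 3) h3 (by omega)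
        refine le_trans ?_ h5
        obtain ⟨t, ht⟩ : ∃ t, a = t + 2 := ⟨a - 2, by omega⟩
        rw [ht]
        have e1 : (t + 2) * 3 - 1 = 3 * t + 5 := by omega
        have e2 : t + 2 - 1 = t + 1 := by omega
        rw [e1, e2]
        nlinarith
    · have hA : P r (q ^ o - 1) ≤ q ^ o := (P_le (sub_one_ne hq (by omega))).trans (Nat.sub_le _ _)
      refine key (four_bound hr hr2 hq ha hA hR) ?_
      have h3 : a * 5 ≤ n := (Nat.mul_le_mul_left _ ho5).trans hle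
      have h4 : 5 ≤ n := by omega
      obtain ⟨t, rfl⟩ : ∃ t, n = t + 5 := ⟨n - 5, by omega⟩
      have e1 : t + 5 - 1 = t + 4 := by omega
      rw [e1]
      have h6 : (t + 4) * (t + 5 + 1) = t * t + 10 * t + 24 := by ring
      rw [h6]
      have h7 : 0 ≤ t * t := Nat.zero_le _
      omega

/-- `r` odd, `r ∣ q - 1` -/
theorem dom4_b {p f n M r : ℕ} (h : Real (.L n) p f M) (hn : 4 ≤ n) (hr : r.Prime) (hrp : r ≠ p) (hr2 : r ≠ 2)
    (hd : r ∣ p ^ f - 1) : (P r M) ^ 4 < M := by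
  have hq := h.q_ge
  have hrq := h.not_dvd_q hr hrp
  have hR := PL_one (n := n) hr hr2 hq hrq (by omega) hd
  have key : ∀ {e : ℕ}, (P r (num (.L n) (p ^ f))) ^ 4 ≤ (p ^ f) ^ e → e + 2 ≤ (n - 1) * (n + 1) →
      (P r M) ^ 4 < M := fun h1 h2 => fin_L' h (by omega) hr hrp h1 h2
  have hfin := fin_L (Q := P r M) h (by omega)
  have hQ := h.P_other_le hr hrp
  set q := p ^ f with hqdef
  have hr3 : 3 ≤ r := by have := hr.two_le; omega
  have hq4 : 4 ≤ q := by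
    have := Nat.le_of_dvd (by omega) hd
    omega
  have hA : P r (q - 1) ≤ q - 1 := P_le (by omega)
  obtain ⟨x, hx⟩ : ∃ x, q = x + 1 := ⟨q - 1, by omega⟩
  have hx1 : q - 1 = x := by omega
  rw [hx1] at hA hR
  have hx3 : 3 ≤ x := by omega
  rcases Nat.lt_or_ge n 5 with hn5 | hn5
  · have hn4 : n = 4 := by omega
    subst hn4
    have hv : r ^ padicValNat r (Nat.factorial 4) ≤ 3 := by
      have : Fact r.Prime := ⟨hr⟩
      have h24 : Nat.factorial 4 = 8 * 3 := by decide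
      have h8 : ¬ r ∣ 8 := by
        intro h8
        have h9 : r ∣ 2 ^ 3 := by simpa using h8
        exact hr2 ((Nat.prime_dvd_prime_iff_eq hr Nat.prime_two).1 (hr.dvd_of_dvd_pow h9))
      rw [h24, padicValNat.mul (by norm_num) (by norm_num), padicValNat.eq_zero_of_not_dvd h8, zero_add]
      exact Nat.le_of_dvd (by norm_num) pow_padicValNat_dvd
    have hR3 : P r M ≤ 3 * x ^ 3 := by
      calc P r M ≤ _ := hQ
        _ = P r x ^ 3 * r ^ padicValNat r (Nat.factorial 4) := hR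
        _ ≤ x ^ 3 * 3 := Nat.mul_le_mul (Nat.pow_le_pow_left hA 3) hv
        _ = 3 * x ^ 3 := by ring
    apply hfin
    have hd4 := dd_le' (n := 4) (q := q) (by norm_num)
    have e1 : (4 - 1) * (4 + 1) = 15 := by norm_num
    rw [e1]
    have h8 : 648 * x ^ 12 ≤ q ^ 15 := by
      have h9 : (x + 1) ^ 3 * (x + 1) ^ 12 = (x + 1) ^ 15 := by ring
      rw [hx, ← h9]
      rcases Nat.lt_or_ge x 8 with hx8 | hx8
      · interval_cases x <;> norm_num
      · refine Nat.mul_le_mul ?_ (Nat.pow_le_pow_left (by omega) 12)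
        calc 648 ≤ 9 ^ 3 := by norm_num
          _ ≤ (x + 1) ^ 3 := Nat.pow_le_pow_left (by omega) 3
    calc 2 * dd (.L 4) q * (P r M) ^ 4 ≤ 2 * 4 * (3 * x ^ 3) ^ 4 :=
          Nat.mul_le_mul (Nat.mul_le_mul_left _ hd4) (Nat.pow_le_pow_left hR3 4)
      _ = 648 * x ^ 12 := by ring
      _ ≤ q ^ 15 := h8
  · have h9 : 9 * x ^ 4 ≤ q ^ 5 := by
      rw [hx]
      rcases Nat.lt_or_ge x 8 with hx8 | hx8
      · interval_cases x <;> norm_num
      · calc 9 * x ^ 4 ≤ (x + 1) * (x + 1) ^ 4 := Nat.mul_le_mul (by omega) (Nat.pow_le_pow_left (by omega) 4)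
          _ = (x + 1) ^ 5 := by ring
    have hv := pow_val_factorial_le hr hr3 (a := n) (by omega)
    refine key (e := 5 * (n - 1)) ?_ ?_
    · calc (P r (num (.L n) q)) ^ 4 = (P r x ^ (n - 1)) ^ 4 * ((r ^ padicValNat r n.factorial) ^ 2) ^ 2 := by
            rw [hR]; ring
        _ ≤ (x ^ (n - 1)) ^ 4 * (3 ^ (n - 1)) ^ 2 :=
            Nat.mul_le_mul (Nat.pow_le_pow_left (Nat.pow_le_pow_left hA _) _) (Nat.pow_le_pow_left hv 2)
        _ = (9 * x ^ 4) ^ (n - 1) := by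
            rw [mul_pow, ← pow_mul, ← pow_mul, ← pow_mul, mul_comm (n - 1) 4, mul_comm (n - 1) 2, pow_mul 3]
            norm_num
            ring
        _ ≤ (q ^ 5) ^ (n - 1) := Nat.pow_le_pow_left h9 _
        _ = q ^ (5 * (n - 1)) := by rw [← pow_mul]
    · obtain ⟨t, rfl⟩ : ∃ t, n = t + 5 := ⟨n - 5, by omega⟩
      have e1 : t + 5 - 1 = t + 4 := by omega
      rw [e1]
      nlinarith

/-! ### `r = 2` -/

theorem P_two_mul_odd {a k : ℕ} (hk : Odd k) (ha : a = 2 * k) : P 2 a = 2 := by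
  have h4 : a = 2 ^ 1 * k := by rw [ha]; ring
  rw [h4, P_pow_self Nat.prime_two]
  · norm_num
  · intro h5
    exact (Nat.not_even_iff_odd.2 hk) (even_iff_two_dvd.2 h5)

theorem sq_sub_one {q : ℕ} (hq : 1 ≤ q) : q ^ 2 - 1 = (q - 1) * (q + 1) := by
  obtain ⟨t, rfl⟩ := Nat.exists_eq_add_of_le' hq
  rw [Nat.add_sub_cancel]
  have : (t + 1) ^ 2 = t * (t + 1 + 1) + 1 := by ring
  rw [this, Nat.add_sub_cancel]

theorem PL_two {q n : ℕ} (hq : 3 ≤ q) (hodd : Odd q) (hn : 3 ≤ n) :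
    P 2 (num (.L n) q) = P 2 (q - 1) ^ (n - 1) * P 2 (q + 1) ^ (n / 2) * 2 ^ padicValNat 2 (n / 2).factorial := by
  have h1 : num (.L n) q * ((q : ℤ) - 1).natAbs = (W (q : ℤ) n).natAbs := by
    rw [← num_L (by omega) (by omega)]
    congr 1
    omega
  have h2 := PLU_two hq hodd hn (Or.inl rfl) h1
  have h3 : ((q : ℤ) - 1).natAbs = q - 1 := by omega
  rw [h3, sq_sub_one (by omega), P_mul (by omega) (by omega)] at h2
  rw [h2]
  set u := P 2 (q - 1)
  set w := P 2 (q + 1)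
  congr 1
  rcases Nat.even_or_odd' n with ⟨k, hk | hk⟩
  · obtain ⟨j, rfl⟩ : ∃ j, k = j + 1 := ⟨k - 1, by omega⟩
    have e1 : (n + 1) / 2 - 1 = j := by omega
    have e2 : n / 2 + 1 - (n + 1) / 2 = 1 := by omega
    have e3 : n / 2 = j + 1 := by omega
    have e4 : n - 1 = 2 * j + 1 := by omega
    rw [e1, e2, e3, e4]
    ring
  · have e1 : (n + 1) / 2 - 1 = k := by omega
    have e2 : n / 2 + 1 - (n + 1) / 2 = 0 := by omega
    have e3 : n / 2 = k := by omega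
    have e4 : n - 1 = 2 * k := by omega
    rw [e1, e2, e3, e4]
    ring

/-- `r = 2`, `q ≡ 3 mod 4` -/
theorem dom4_c {p f n M : ℕ} (h : Real (.L n) p f M) (hn : 4 ≤ n) (hrp : 2 ≠ p) {t : ℕ} (ht : p ^ f = 4 * t + 3)
    (h43 : ¬ (n = 4 ∧ p ^ f = 3)) : (P 2 M) ^ 4 < M := by
  have hq := h.q_ge
  have key : ∀ {e : ℕ}, (P 2 (num (.L n) (p ^ f))) ^ 4 ≤ (p ^ f) ^ e → e + 2 ≤ (n - 1) * (n + 1) →
      (P 2 M) ^ 4 < M := fun h1 h2 => fin_L' h (by omega) Nat.prime_two hrp h1 h2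
  have hfin := fin_L (Q := P 2 M) h (by omega)
  have hQ := h.P_other_le Nat.prime_two hrp
  set q := p ^ f with hqdef
  have hodd : Odd q := ⟨2 * t + 1, by omega⟩
  have hq3 : 3 ≤ q := by omega
  have hR := PL_two (n := n) hq3 hodd (by omega)
  have hu : P 2 (q - 1) = 2 := P_two_mul_odd (k := 2 * t + 1) ⟨t, rfl⟩ (by omega)
  have hw : P 2 (q + 1) ≤ q + 1 := P_le (by omega)
  rw [hu] at hR
  have hfac2 : padicValNat 2 (Nat.factorial 2) = 1 := by
    have : Fact (Nat.Prime 2) := ⟨Nat.prime_two⟩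
    exact padicValNat_self
  have hfac3 : padicValNat 2 (Nat.factorial 3) = 1 := by
    have : Fact (Nat.Prime 2) := ⟨Nat.prime_two⟩
    have h6 : Nat.factorial 3 = 2 * 3 := by decide
    rw [h6, padicValNat.mul (by norm_num) (by norm_num), padicValNat_self, padicValNat.eq_zero_of_not_dvd (by norm_num)]
  rcases Nat.lt_or_ge n 7 with hn7 | hn7
  · have hn456 : n = 4 ∨ n = 5 ∨ n = 6 := by omega
    rcases hn456 with rfl | rfl | rfl
    · -- `n = 4`
      have hq7 : 7 ≤ q := by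
        by_contra hcon
        exact h43 ⟨rfl, by omega⟩
      have hd : dd (.L 4) q ≤ 2 := by
        show Nat.gcd 4 (q - 1) ≤ 2
        have h1 : q - 1 = 2 + 4 * t := by omega
        rw [h1, Nat.gcd_add_mul_left_right]
        decide
      have hR3 : P 2 M ≤ 16 * (q + 1) ^ 2 := by
        calc P 2 M ≤ _ := hQ
          _ = 2 ^ 3 * P 2 (q + 1) ^ 2 * 2 ^ padicValNat 2 (Nat.factorial 2) := hR
          _ = 16 * P 2 (q + 1) ^ 2 := by rw [hfac2]; ring
          _ ≤ 16 * (q + 1) ^ 2 := Nat.mul_le_mul_left _ (Nat.pow_le_pow_left hw 2)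
      apply hfin
      have e1 : (4 - 1) * (4 + 1) = 15 := by norm_num
      rw [e1]
      have h8 : 2 ^ 18 * (q + 1) ^ 8 ≤ q ^ 15 := by
        have h9 : 7 * (q + 1) ≤ 8 * q := by omega
        have h10 : (7 * (q + 1)) ^ 8 ≤ (8 * q) ^ 8 := Nat.pow_le_pow_left h9 8
        have h11 : 7 ^ 7 ≤ q ^ 7 := Nat.pow_le_pow_left hq7 7
        have h12 : 7 ^ 8 * (2 ^ 18 * (q + 1) ^ 8) ≤ 7 ^ 8 * q ^ 15 := by
          calc 7 ^ 8 * (2 ^ 18 * (q + 1) ^ 8) = 2 ^ 18 * (7 * (q + 1)) ^ 8 := by ring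
            _ ≤ 2 ^ 18 * (8 * q) ^ 8 := Nat.mul_le_mul_left _ h10
            _ = 2 ^ 42 * q ^ 8 := by ring
            _ ≤ (7 ^ 8 * 7 ^ 7) * q ^ 8 := Nat.mul_le_mul_right _ (by norm_num)
            _ ≤ (7 ^ 8 * q ^ 7) * q ^ 8 := Nat.mul_le_mul_right _ (Nat.mul_le_mul_left _ h11)
            _ = 7 ^ 8 * q ^ 15 := by ring
        exact Nat.le_of_mul_le_mul_left h12 (by norm_num)
      calc 2 * dd (.L 4) q * (P 2 M) ^ 4 ≤ 2 * 2 * (16 * (q + 1) ^ 2) ^ 4 :=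
            Nat.mul_le_mul (Nat.mul_le_mul_left _ hd) (Nat.pow_le_pow_left hR3 4)
        _ = 2 ^ 18 * (q + 1) ^ 8 := by ring
        _ ≤ q ^ 15 := h8
    · -- `n = 5`
      have hR5 : P 2 (num (.L 5) q) ≤ 32 * (q + 1) ^ 2 := by
        calc P 2 (num (.L 5) q) = 2 ^ 4 * P 2 (q + 1) ^ 2 * 2 ^ padicValNat 2 (Nat.factorial 2) := hR
          _ = 32 * P 2 (q + 1) ^ 2 := by rw [hfac2]; ring
          _ ≤ 32 * (q + 1) ^ 2 := Nat.mul_le_mul_left _ (Nat.pow_le_pow_left hw 2)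
      rcases Nat.eq_zero_or_pos t with ht0 | ht0
      · have hq3' : q = 3 := by omega
        apply hfin
        have hQ5 := hQ.trans hR5
        rw [hq3'] at hQ5 ⊢
        calc 2 * dd (.L 5) 3 * (P 2 M) ^ 4 ≤ 2 * dd (.L 5) 3 * (32 * (3 + 1) ^ 2) ^ 4 :=
              Nat.mul_le_mul_left _ (Nat.pow_le_pow_left hQ5 4)
          _ ≤ 3 ^ ((5 - 1) * (5 + 1)) := by decide
      · have hq7 : 7 ≤ q := by omega
        refine key (e := 16) ?_ (by norm_num)
        have h1 : 32 * (q + 1) ^ 2 ≤ q ^ 4 := by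
          have h9 : 7 * (q + 1) ≤ 8 * q := by omega
          have h2 : (7 * (q + 1)) ^ 2 ≤ (8 * q) ^ 2 := Nat.pow_le_pow_left h9 2
          have h3 : 7 ^ 2 * q ^ 2 ≤ q ^ 4 := by
            calc 7 ^ 2 * q ^ 2 ≤ q ^ 2 * q ^ 2 := Nat.mul_le_mul_right _ (Nat.pow_le_pow_left hq7 2)
              _ = q ^ 4 := by ring
          have h4 : (7 * (q + 1)) ^ 2 = 49 * (q + 1) ^ 2 := by ring
          have h5 : (8 * q) ^ 2 = 64 * q ^ 2 := by ring
          rw [h4, h5] at h2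
          norm_num at h3
          omega
        calc (P 2 (num (.L 5) q)) ^ 4 ≤ (32 * (q + 1) ^ 2) ^ 4 := Nat.pow_le_pow_left hR5 4
          _ ≤ (q ^ 4) ^ 4 := Nat.pow_le_pow_left h1 4
          _ = q ^ 16 := by ring
    · -- `n = 6`
      have hR6 : P 2 (num (.L 6) q) ≤ (4 * (q + 1)) ^ 3 := by
        calc P 2 (num (.L 6) q) = 2 ^ 5 * P 2 (q + 1) ^ 3 * 2 ^ padicValNat 2 (Nat.factorial 3) := hR
          _ = 64 * P 2 (q + 1) ^ 3 := by rw [hfac3]; ring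
          _ ≤ 64 * (q + 1) ^ 3 := Nat.mul_le_mul_left _ (Nat.pow_le_pow_left hw 3)
          _ = (4 * (q + 1)) ^ 3 := by ring
      refine key (e := 32) ?_ (by norm_num)
      have h1 : (4 * (q + 1)) ^ 3 ≤ q ^ 8 := by
        have h2 : (3 * (q + 1)) ^ 3 ≤ (4 * q) ^ 3 := Nat.pow_le_pow_left (by omega) 3
        have h3 : 3 ^ 5 ≤ q ^ 5 := Nat.pow_le_pow_left hq3 5
        have h4 : 27 * (4 * (q + 1)) ^ 3 ≤ 27 * q ^ 8 := by
          calc 27 * (4 * (q + 1)) ^ 3 = 64 * (3 * (q + 1)) ^ 3 := by ring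
            _ ≤ 64 * (4 * q) ^ 3 := Nat.mul_le_mul_left _ h2
            _ = 4096 * q ^ 3 := by ring
            _ ≤ (27 * 3 ^ 5) * q ^ 3 := Nat.mul_le_mul_right _ (by norm_num)
            _ ≤ (27 * q ^ 5) * q ^ 3 := Nat.mul_le_mul_right _ (Nat.mul_le_mul_left _ h3)
            _ = 27 * q ^ 8 := by ring
        exact Nat.le_of_mul_le_mul_left h4 (by norm_num)
      calc (P 2 (num (.L 6) q)) ^ 4 ≤ ((4 * (q + 1)) ^ 3) ^ 4 := Nat.pow_le_pow_left hR6 4
        _ ≤ (q ^ 8) ^ 4 := Nat.pow_le_pow_left h1 4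
        _ = q ^ 32 := by ring
  · -- `n ≥ 7`
    obtain ⟨k, hk⟩ : ∃ k, n / 2 = k + 1 := ⟨n / 2 - 1, by omega⟩
    have hk2 : 2 ≤ k := by omega
    have hfac := pow_val_factorial_two_le (a := k + 1) (by omega)
    rw [hk] at hR
    rw [Nat.add_sub_cancel] at hfac
    have h1 : 2 * P 2 (num (.L n) q) ≤ (8 * (q + 1)) ^ (k + 1) := by
      calc 2 * P 2 (num (.L n) q) = 2 * (2 ^ (n - 1) * P 2 (q + 1) ^ (k + 1) * 2 ^ padicValNat 2 (k + 1).factorial) := by
            rw [hR]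
        _ ≤ 2 * (2 ^ (2 * (k + 1)) * (q + 1) ^ (k + 1) * 2 ^ k) :=
            Nat.mul_le_mul_left _ (Nat.mul_le_mul (Nat.mul_le_mul (Nat.pow_le_pow_right (by norm_num) (by omega))
              (Nat.pow_le_pow_left hw _)) hfac)
        _ = (2 ^ 2) ^ (k + 1) * (q + 1) ^ (k + 1) * 2 ^ (k + 1) := by rw [pow_mul, pow_succ 2 k]; ring
        _ = (8 * (q + 1)) ^ (k + 1) := by rw [← mul_pow, ← mul_pow]; congr 1; ring
    have h2 : (8 * (q + 1)) ^ 4 ≤ q ^ 13 := by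
      have h3 : (3 * (q + 1)) ^ 4 ≤ (4 * q) ^ 4 := Nat.pow_le_pow_left (by omega) 4
      have h4 : 3 ^ 9 ≤ q ^ 9 := Nat.pow_le_pow_left hq3 9
      have h5 : 81 * (8 * (q + 1)) ^ 4 ≤ 81 * q ^ 13 := by
        calc 81 * (8 * (q + 1)) ^ 4 = 4096 * (3 * (q + 1)) ^ 4 := by ring
          _ ≤ 4096 * (4 * q) ^ 4 := Nat.mul_le_mul_left _ h3
          _ = 1048576 * q ^ 4 := by ring
          _ ≤ (81 * 3 ^ 9) * q ^ 4 := Nat.mul_le_mul_right _ (by norm_num)
          _ ≤ (81 * q ^ 9) * q ^ 4 := Nat.mul_le_mul_right _ (Nat.mul_le_mul_left _ h4)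
          _ = 81 * q ^ 13 := by ring
      exact Nat.le_of_mul_le_mul_left h5 (by norm_num)
    apply hfin
    have h6 : 16 * (P 2 M) ^ 4 ≤ q ^ (13 * (k + 1)) := by
      calc 16 * (P 2 M) ^ 4 = (2 * P 2 M) ^ 4 := by ring
        _ ≤ (2 * P 2 (num (.L n) q)) ^ 4 := Nat.pow_le_pow_left (Nat.mul_le_mul_left _ hQ) 4
        _ ≤ ((8 * (q + 1)) ^ (k + 1)) ^ 4 := Nat.pow_le_pow_left h1 4
        _ = ((8 * (q + 1)) ^ 4) ^ (k + 1) := pow_right_comm _ _ _
        _ ≤ (q ^ 13) ^ (k + 1) := Nat.pow_le_pow_left h2 _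
        _ = q ^ (13 * (k + 1)) := by rw [← pow_mul]
    have hdd := dd_le (n := n) hq
    calc 2 * dd (.L n) q * (P 2 M) ^ 4 ≤ (16 * q) * (P 2 M) ^ 4 := Nat.mul_le_mul_right _ (by omega)
      _ = q * (16 * (P 2 M) ^ 4) := by ring
      _ ≤ q * q ^ (13 * (k + 1)) := Nat.mul_le_mul_left _ h6
      _ = q ^ (13 * (k + 1) + 1) := by rw [pow_succ]; ring
      _ ≤ q ^ ((n - 1) * (n + 1)) := by
        apply Nat.pow_le_pow_right (by omega)
        rcases Nat.lt_or_ge n 8 with hn8 | hn8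
        · have hn' : n = 7 := by omega
          subst hn'
          have : k = 2 := by omega
          subst this
          norm_num
        · have h7 : (2 * k + 1) * (2 * k + 3) ≤ (n - 1) * (n + 1) := Nat.mul_le_mul (by omega) (by omega)
          refine le_trans ?_ h7
          obtain ⟨s, rfl⟩ : ∃ s, k = s + 3 := ⟨k - 3, by omega⟩
          nlinarith

/-- `r = 2`, `q ≡ 1 mod 4` -/
theorem dom4_d {p f n M : ℕ} (h : Real (.L n) p f M) (hn : 4 ≤ n) (hrp : 2 ≠ p) {t : ℕ} (ht : p ^ f = 4 * t + 1)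
    (ht1 : 1 ≤ t) : (P 2 M) ^ 4 < M := by
  have hq := h.q_ge
  have key : ∀ {e : ℕ}, (P 2 (num (.L n) (p ^ f))) ^ 4 ≤ (p ^ f) ^ e → e + 2 ≤ (n - 1) * (n + 1) →
      (P 2 M) ^ 4 < M := fun h1 h2 => fin_L' h (by omega) Nat.prime_two hrp h1 h2
  have hfin := fin_L (Q := P 2 M) h (by omega)
  have hQ := h.P_other_le Nat.prime_two hrp
  have hQe := h.P_other Nat.prime_two hrp
  set q := p ^ f with hqdef
  have hodd : Odd q := ⟨2 * t, by omega⟩
  have hq3 : 5 ≤ q := by omega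
  have hR := PL_two (n := n) (by omega) hodd (by omega)
  have hw : P 2 (q + 1) = 2 := P_two_mul_odd (k := 2 * t + 1) ⟨t, rfl⟩ (by omega)
  have hu : P 2 (q - 1) ≤ q - 1 := P_le (by omega)
  rw [hw] at hR
  have hfac2 : padicValNat 2 (Nat.factorial 2) = 1 := by
    have : Fact (Nat.Prime 2) := ⟨Nat.prime_two⟩
    exact padicValNat_self
  obtain ⟨x, hx⟩ : ∃ x, q = x + 1 := ⟨q - 1, by omega⟩
  have hx1 : q - 1 = x := by omega
  rw [hx1] at hu hR
  rcases Nat.lt_or_ge n 6 with hn6 | hn6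
  · have hn45 : n = 4 ∨ n = 5 := by omega
    rcases hn45 with rfl | rfl
    · -- `n = 4`
      have hd : dd (.L 4) q = 4 := by
        show Nat.gcd 4 (q - 1) = 4
        have h1 : q - 1 = 4 * t := by omega
        rw [h1]
        exact Nat.gcd_mul_right_right 4 t ▸ (by simp)
      have hP4 : P 2 4 = 4 := by
        have : (4 : ℕ) = 2 ^ 2 * 1 := by norm_num
        rw [this, P_pow_self Nat.prime_two (by norm_num)]
        norm_num
      rw [hd, hP4, hR] at hQe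
      have hQ4 : P 2 M ≤ 2 * x ^ 3 := by
        have h1 : 4 * P 2 M = 4 * (2 * P 2 x ^ 3) := by
          rw [hQe]
          show P 2 x ^ 3 * 2 ^ 2 * 2 ^ padicValNat 2 (Nat.factorial 2) = _
          rw [hfac2]; ring
        have h2 : P 2 M = 2 * P 2 x ^ 3 := Nat.eq_of_mul_eq_mul_left (by norm_num) h1
        rw [h2]
        exact Nat.mul_le_mul_left _ (Nat.pow_le_pow_left hu 3)
      apply hfin
      rw [hd]
      have e1 : (4 - 1) * (4 + 1) = 15 := by norm_num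
      rw [e1]
      have h8 : 128 * x ^ 12 ≤ q ^ 15 := by
        have h9 : (x + 1) ^ 3 * (x + 1) ^ 12 = (x + 1) ^ 15 := by ring
        rw [hx, ← h9]
        rcases Nat.lt_or_ge x 5 with hx5 | hx5
        · have : x = 4 := by omega
          rw [this]; norm_num
        · refine Nat.mul_le_mul ?_ (Nat.pow_le_pow_left (by omega) 12)
          calc 128 ≤ 6 ^ 3 := by norm_num
            _ ≤ (x + 1) ^ 3 := Nat.pow_le_pow_left (by omega) 3
      calc 2 * 4 * (P 2 M) ^ 4 ≤ 2 * 4 * (2 * x ^ 3) ^ 4 := Nat.mul_le_mul_left _ (Nat.pow_le_pow_left hQ4 4)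
        _ = 128 * x ^ 12 := by ring
        _ ≤ q ^ 15 := h8
    · -- `n = 5`
      have hd := dd_le' (n := 5) (q := q) (by norm_num)
      have hQ5 : P 2 M ≤ 8 * x ^ 4 := by
        calc P 2 M ≤ _ := hQ
          _ = P 2 x ^ 4 * 2 ^ 2 * 2 ^ padicValNat 2 (Nat.factorial 2) := hR
          _ = 8 * P 2 x ^ 4 := by rw [hfac2]; ring
          _ ≤ 8 * x ^ 4 := Nat.mul_le_mul_left _ (Nat.pow_le_pow_left hu 4)
      apply hfin
      have e1 : (5 - 1) * (5 + 1) = 24 := by norm_num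
      rw [e1]
      calc 2 * dd (.L 5) q * (P 2 M) ^ 4 ≤ 2 * 5 * (8 * x ^ 4) ^ 4 :=
            Nat.mul_le_mul (Nat.mul_le_mul_left _ hd) (Nat.pow_le_pow_left hQ5 4)
        _ = 40960 * x ^ 16 := by ring
        _ ≤ q ^ 8 * q ^ 16 := by
          refine Nat.mul_le_mul ?_ (Nat.pow_le_pow_left (by omega) 16)
          calc 40960 ≤ 5 ^ 8 := by norm_num
            _ ≤ q ^ 8 := Nat.pow_le_pow_left hq3 8
        _ = q ^ 24 := by ring
  · -- `n ≥ 6`
    obtain ⟨k, hk⟩ : ∃ k, n / 2 = k + 1 := ⟨n / 2 - 1, by omega⟩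
    have hfac := pow_val_factorial_two_le (a := k + 1) (by omega)
    rw [hk] at hR
    rw [Nat.add_sub_cancel] at hfac
    have h1 : P 2 (num (.L n) q) ≤ (2 * x) ^ (n - 1) := by
      calc P 2 (num (.L n) q) = P 2 x ^ (n - 1) * 2 ^ (k + 1) * 2 ^ padicValNat 2 (k + 1).factorial := hR
        _ ≤ x ^ (n - 1) * 2 ^ (k + 1) * 2 ^ k :=
            Nat.mul_le_mul (Nat.mul_le_mul_right _ (Nat.pow_le_pow_left hu _)) hfac
        _ = x ^ (n - 1) * 2 ^ (k + 1 + k) := by rw [pow_add 2 (k + 1) k]; ring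
        _ ≤ x ^ (n - 1) * 2 ^ (n - 1) := Nat.mul_le_mul_left _ (Nat.pow_le_pow_right (by norm_num) (by omega))
        _ = (2 * x) ^ (n - 1) := by rw [← mul_pow, mul_comm]
    have h2 : (2 * x) ^ 4 ≤ q ^ 6 := by
      calc (2 * x) ^ 4 = 16 * x ^ 4 := by ring
        _ ≤ q ^ 2 * q ^ 4 := by
          refine Nat.mul_le_mul ?_ (Nat.pow_le_pow_left (by omega) 4)
          calc 16 ≤ 5 ^ 2 := by norm_num
            _ ≤ q ^ 2 := Nat.pow_le_pow_left hq3 2
        _ = q ^ 6 := by ring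
    refine key (e := 6 * (n - 1)) ?_ ?_
    · calc (P 2 (num (.L n) q)) ^ 4 ≤ ((2 * x) ^ (n - 1)) ^ 4 := Nat.pow_le_pow_left h1 4
        _ = ((2 * x) ^ 4) ^ (n - 1) := pow_right_comm _ _ _
        _ ≤ (q ^ 6) ^ (n - 1) := Nat.pow_le_pow_left h2 _
        _ = q ^ (6 * (n - 1)) := by rw [← pow_mul]
    · obtain ⟨s, rfl⟩ : ∃ s, n = s + 6 := ⟨n - 6, by omega⟩
      have e1 : s + 6 - 1 = s + 5 := by omega
      rw [e1]
      nlinarith

/-- COD-DOM-L -/
theorem dom4_L {p f n M r : ℕ} (h : Cfsg.Agent.H902.Art.Real (.L n) p f M) (hn : 4 ≤ n) (hr : r.Prime)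
    (hrp : r ≠ p) (h43 : ¬ (n = 4 ∧ p ^ f = 3 ∧ r = 2)) : (Cfsg.Agent.H902.Art.P r M) ^ 4 < M := by
  by_cases hr2 : r = 2
  · subst hr2
    have hq := h.q_ge
    have hodd : ¬ 2 ∣ p ^ f := h.not_dvd_q hr hrp
    have h4 : p ^ f % 4 = 1 ∨ p ^ f % 4 = 3 := by omega
    rcases h4 with h4 | h4
    · exact dom4_d h hn hrp (t := p ^ f / 4) (by omega) (by omega)
    · exact dom4_c h hn hrp (t := p ^ f / 4) (by omega) fun h5 => h43 ⟨h5.1, h5.2, rfl⟩
  · by_cases hd : r ∣ p ^ f - 1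
    · exact dom4_b h hn hr hrp hr2 hd
    · exact dom4_a h hn hr hrp hr2 hd

end Cfsg.Agent.H352.Cd
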