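import Cfsg.Agent.H352.Cd.Base

/-!
# Codegrees (S3538, S3539): the sporadic groups (helper352)
-/

set_option autoImplicit false
set_option exponentiation.threshold 400

namespace Cfsg.Agent.H352.Cd

open Cfsg.Agent.H902.Art Cfsg.Agent.H66.Cod Finset

/-- the primes -/
def PL : List ℕ := [2, 3, 5, 7, 11, 13, 17, 19, 23, 29, 31, 37, 41, 43, 47, 53, 59, 61, 67, 71]

/-- the test -/
noncomputable def testS (M T d : ℕ) : Bool :=
  cond (Nat.beq (Nat.mod T (Nat.mul d M)) 0)
    (cond (Nat.ble (Nat.mul d (Nat.mul M M)) (Nat.mul 4 T)) true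
      (and (Nat.beq M 604800) (Nat.beq T (Nat.mul d 987033600)))) true

/-- the enumeration -/
noncomputable def allS : Bool :=
  sporList.all fun M => PL.all fun p => cond (Nat.beq (Nat.mod M p) 0)
    (TL.all fun X => (List.range (Nat.div 357 (NN X))).all fun i =>
      cond (Nat.ble (Nat.mul M M) (Nat.pow p (Nat.mul (Nat.succ i) (NN X)))) true
        (testS M (TT X (Nat.pow p (Nat.succ i))) (dd X (Nat.pow p (Nat.succ i))))) true

set_option maxRecDepth 100000 in
theorem allS_true : allS = true := by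
  decide +kernel

theorem primes_spor : ∀ M ∈ sporList, M ∣ (PL.prod) ^ 46 := by
  decide +kernel

theorem lt_spor : ∀ M ∈ sporList, M * M < 4 * 2 ^ 358 := by
  decide +kernel

theorem mem_PL {p M : ℕ} (hp : p.Prime) (hM : M ∈ sporList) (hpM : p ∣ M) : p ∈ PL := by
  have h1 := hp.dvd_of_dvd_pow (hpM.trans (primes_spor M hM))
  obtain ⟨a, ha, hpa⟩ := (hp.prime.dvd_prod_iff).1 h1
  have h2 : ∀ a ∈ PL, a.Prime := by
    intro a ha
    simp only [PL, List.mem_cons, List.not_mem_nil, or_false] at ha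
    rcases ha with rfl | rfl | rfl | rfl | rfl | rfl | rfl | rfl | rfl | rfl | rfl | rfl | rfl | rfl | rfl | rfl |
      rfl | rfl | rfl | rfl <;> norm_num
  rwa [(Nat.prime_dvd_prime_iff_eq hp (h2 a ha)).1 hpa]

theorem spor_numeric {X : Cfsg.Agent.H902.Art.Sh} {p f k N M : ℕ} (hX : Cfsg.Agent.H66.Cod.Tgt X)
    (h : Cfsg.Agent.H902.Art.Real X p f N) (hM : M ∈ Cfsg.Agent.H66.Cod.sporList) (hpM : p ∣ M) (hk : N = k * M)
    (h4 : 4 * k < M) : M = 604800 ∧ N = 987033600 := by
  have hp := h.hp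
  have hf := h.hf
  have hM0 : 0 < M := by omega
  have hN0 : 0 < N := Nat.pos_of_ne_zero h.M_ne
  have hdN : dd X (p ^ f) ≠ 0 := h.dd_ne
  -- the `p`-part
  have h5 : (p ^ f) ^ NN X ≤ N := by
    rw [← h.P_self]
    exact P_le h.M_ne
  have h6 : 4 * N < M * M := by
    rw [hk, ← mul_assoc]
    exact Nat.mul_lt_mul_of_pos_right h4 hM0
  have h7' : 4 * p ^ (f * NN X) < M * M := by
    rw [pow_mul]
    omega
  have h7 : p ^ (f * NN X) < M * M := by omega
  have h8 : f * NN X < 358 := by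
    by_contra hcon
    have h9 : 2 ^ 358 ≤ p ^ (f * NN X) :=
      (Nat.pow_le_pow_right (by norm_num) (by omega)).trans (Nat.pow_le_pow_left hp.two_le _)
    have h10 := lt_spor M hM
    have h11 := Nat.mul_le_mul_left 4 h9
    exact absurd (lt_of_le_of_lt h11 (h7'.trans h10)) (lt_irrefl _)
  have hNN := Tgt.NN_pos hX
  have h9 : NN X ≤ 357 := by nlinarith
  -- the check
  have h10 := allS_true
  unfold allS at h10
  rw [List.all_eq_true] at h10
  have h11 := h10 M hM
  rw [List.all_eq_true] at h11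
  have h12 := h11 p (mem_PL hp hM hpM)
  have e1 : Nat.beq (Nat.mod M p) 0 = true := by
    rw [Nat.beq_eq]
    exact Nat.mod_eq_zero_of_dvd hpM
  rw [e1, cond_true, List.all_eq_true] at h12
  have h13 := h12 X (mem_TL hX h9)
  rw [List.all_eq_true] at h13
  have h14 := h13 (f - 1) (by
    rw [List.mem_range]
    have : f ≤ 357 / NN X := by
      rw [Nat.le_div_iff_mul_le (by omega)]
      omega
    show f - 1 < 357 / NN X
    omega)
  have e2 : Nat.succ (f - 1) = f := by omega
  rw [e2] at h14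
  have e3 : Nat.ble (Nat.mul M M) (Nat.pow p (Nat.mul f (NN X))) = false := by
    rw [← Bool.not_eq_true, Nat.ble_eq]
    exact Nat.not_le.2 h7
  rw [e3, cond_false] at h14
  unfold testS at h14
  have e4 : TT X (Nat.pow p f) = dd X (p ^ f) * N := TT_eq h
  have e5 : dd X (Nat.pow p f) = dd X (p ^ f) := rfl
  rw [e4, e5] at h14
  set d := dd X (p ^ f) with hd
  have e6 : Nat.beq (Nat.mod (d * N) (Nat.mul d M)) 0 = true := by
    rw [Nat.beq_eq]
    refine Nat.mod_eq_zero_of_dvd ?_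
    show d * M ∣ d * N
    rw [hk]
    exact Nat.mul_dvd_mul_left d (Dvd.intro_left k rfl)
  have e7 : Nat.ble (Nat.mul d (Nat.mul M M)) (Nat.mul 4 (d * N)) = false := by
    rw [← Bool.not_eq_true, Nat.ble_eq, not_le]
    show 4 * (d * N) < d * (M * M)
    have : 4 * (d * N) = d * (4 * N) := by ring
    rw [this]
    exact Nat.mul_lt_mul_of_pos_left h6 (Nat.pos_of_ne_zero hdN)
  rw [e6, cond_true, e7, cond_false, Bool.and_eq_true, Nat.beq_eq, Nat.beq_eq] at h14
  refine ⟨h14.1, ?_⟩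
  exact Nat.eq_of_mul_eq_mul_left (Nat.pos_of_ne_zero hdN) h14.2

end Cfsg.Agent.H352.Cd
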